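import Groth.Agent.LimLib.Smooth
import Groth.Agent.GrpdLib.FppfSourceDescent
import Mathlib.AlgebraicGeometry.Morphisms.Flat

/-! # Flatness descends along limits of schemes -/

set_option backward.isDefEq.respectTransparency false
set_option backward.defeqAttrib.useBackward true

universe u

open CategoryTheory Limits AlgebraicGeometry

namespace Groth.Agent.FlatDescends

open Groth.Agent.LimLib

/-- A flat finitely presented morphism of affine schemes comes from one over an affine scheme of finite type over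
`ℤ`. -/
theorem exists_flat_model_scheme {X S : Scheme.{u}} [IsAffine X] [IsAffine S] (f : X ⟶ S) [Flat f]
    [LocallyOfFinitePresentation f] :
    ∃ (T T₁ : Scheme.{u}) (h : T₁ ⟶ T) (b : S ⟶ T) (m : X ⟶ T₁),
      IsAffine T ∧ IsAffine T₁ ∧ Flat h ∧ LocallyOfFinitePresentation h ∧
      LocallyOfFinitePresentation (specULiftZIsTerminal.from T) ∧ IsPullback m f h b := by
  have hs : f.appTop.hom.Flat := HasRingHomProperty.appTop (P := @Flat) f inferInstance
  have hp' : f.appTop.hom.FinitePresentation :=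
    HasRingHomProperty.appTop (P := @LocallyOfFinitePresentation) f inferInstance
  algebraize [f.appTop.hom]
  obtain ⟨A₀, B₀, _, _, hfg, hfp', hsm, ⟨e⟩⟩ :=
    Groth.Agent.GrpdLib.FppfSourceDescent.exists_flat_model Γ(S, ⊤) Γ(X, ⊤)
  let T := Spec (CommRingCat.of A₀)
  let T₁ := Spec (CommRingCat.of B₀)
  let h : T₁ ⟶ T := Spec.map (CommRingCat.ofHom (algebraMap A₀ B₀))
  let bT : S ⟶ T := S.isoSpec.hom ≫ Spec.map (CommRingCat.ofHom (algebraMap A₀ Γ(S, ⊤)))
  have hh : Flat h := (HasRingHomProperty.Spec_iff (P := @Flat)).mpr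
    (RingHom.flat_algebraMap_iff.mpr hsm)
  have hh' : LocallyOfFinitePresentation h := (HasRingHomProperty.Spec_iff (P := @LocallyOfFinitePresentation)).mpr
    (RingHom.finitePresentation_algebraMap.mpr hfp')
  have hT : LocallyOfFinitePresentation (specULiftZIsTerminal.from T) := by
    let φ : ULift.{u} ℤ →+* A₀ := (algebraMap ℤ A₀).comp (ULift.ringEquiv : ULift.{u} ℤ ≃+* ℤ).toRingHom
    rw [show specULiftZIsTerminal.from T = Spec.map (CommRingCat.ofHom φ) from
      specULiftZIsTerminal.hom_ext _ _, LocallyOfFinitePresentation.SpecMap_iff]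
    have hft : Algebra.FiniteType ℤ A₀ := (Subalgebra.fg_iff_finiteType A₀).mp hfg
    exact (RingHom.finitePresentation_algebraMap.mpr
      (Algebra.FinitePresentation.of_finiteType.mp hft)).comp
      (RingHom.FinitePresentation.of_bijective (ULift.ringEquiv : ULift.{u} ℤ ≃+* ℤ).bijective)
  have hp := IsPullback.of_hasPullback
    (Spec.map (CommRingCat.ofHom (algebraMap A₀ Γ(S, ⊤))))
    (Spec.map (CommRingCat.ofHom (algebraMap A₀ B₀)))
  let i : X ≅ pullback (Spec.map (CommRingCat.ofHom (algebraMap A₀ Γ(S, ⊤))))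
      (Spec.map (CommRingCat.ofHom (algebraMap A₀ B₀))) :=
    X.isoSpec ≪≫ Scheme.Spec.mapIso e.symm.toRingEquiv.toCommRingCatIso.op ≪≫
      (pullbackSpecIso A₀ Γ(S, ⊤) B₀).symm
  refine ⟨T, T₁, h, bT, i.hom ≫ pullback.snd _ _, inferInstance, inferInstance, hh, hh', hT, ?_⟩
  refine hp.flip.of_iso i.symm (Iso.refl _) S.isoSpec.symm (Iso.refl _) (by simp [T₁]) ?_
    (by simp [h, T₁, T]) (by simp [bT, T])
  rw [← cancel_epi i.hom]
  simp only [Iso.symm_hom, Iso.hom_inv_id_assoc]
  rw [← Category.assoc, Iso.comp_inv_eq, ← Scheme.isoSpec_hom_naturality]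
  simp only [i, Iso.trans_hom, Iso.symm_hom, Functor.mapIso_hom, Scheme.Spec_map,
    Category.assoc, pullbackSpecIso_inv_fst]
  congr 1
  rw [← Spec.map_comp]
  congr 1
  ext r
  exact (e.symm.commutes r)

theorem descendsAffine_flat : DescendsAffine.{u} @Flat @LocallyOfFinitePresentation := by
  refine DescendsAffine.of_source
    (fun a _ b hb => by have : LocallyOfFinitePresentation b := hb; infer_instance) ?_
  intro I _ _ D c hc _ i X₀ _ f₀ hQ X q f hf hP
  have : Flat f := hP
  have : LocallyOfFinitePresentation f₀ := hQ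
  have : LocallyOfFinitePresentation f := MorphismProperty.of_isPullback (P := @LocallyOfFinitePresentation) hf hQ
  have : IsAffine c.pt := Scheme.isAffine_of_isLimit _ hc
  have : IsAffine X := IsAffine.of_isPullback hf
  obtain ⟨T, T₁, h, b, m, _, _, hh, hh', hT, hsq⟩ := exists_flat_model_scheme f
  let t : D ⟶ (Functor.const I).obj (Spec (CommRingCat.of (ULift.{u} ℤ))) :=
    { app := fun j => specULiftZIsTerminal.from _
      naturality := fun _ _ _ => specULiftZIsTerminal.hom_ext _ _ }
  obtain ⟨j₁, b₁, hb₁, -⟩ := Scheme.exists_π_app_comp_eq_of_locallyOfFinitePresentation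
    D t (specULiftZIsTerminal.from T) _ hc b (by ext; exact specULiftZIsTerminal.hom_ext _ _)
  obtain ⟨j, a₁, a₂, -⟩ := IsCofilteredOrEmpty.cone_objs j₁ i
  have : IsAffine (pullback h (D.map a₁ ≫ b₁)) := inferInstance
  have : Flat (pullback.snd h (D.map a₁ ≫ b₁)) := MorphismProperty.pullback_snd _ _ hh
  have h₁ : IsPullback (pullback.lift m (f ≫ c.π.app j) (by simp [hsq.w, hb₁])) f
      (pullback.snd h (D.map a₁ ≫ b₁)) (c.π.app j) :=
    IsPullback.of_right (by simpa [hb₁] using hsq) (by simp) (IsPullback.of_hasPullback _ _)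
  have h₂ : IsPullback (pullback.lift q (f ≫ c.π.app j) (by simp [hf.w])) f
      (pullback.snd f₀ (D.map a₂)) (c.π.app j) :=
    IsPullback.of_right (by simpa using hf) (by simp) (IsPullback.of_hasPullback _ _)
  obtain ⟨k, φ, hk⟩ := exists_stage_of_iso hc (pullback.snd h (D.map a₁ ≫ b₁))
    (pullback.snd f₀ (D.map a₂)) h₁ h₂ (P := @Flat) inferInstance
  have hsq' := (IsPullback.of_hasPullback (pullback.snd f₀ (D.map a₂)) (D.map φ)).paste_horiz
    (IsPullback.of_hasPullback f₀ (D.map a₂))
  rw [← D.map_comp] at hsq'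
  exact ⟨k, φ ≫ a₂, property_of_factor hsq' (IsPullback.of_hasPullback _ _) (𝟙 _) (by simp) hk⟩

theorem descends_flat : Descends.{u} @Flat @LocallyOfFinitePresentation :=
  Descends.of_affine descendsAffine_flat


end Groth.Agent.FlatDescends
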